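import Cfsg.Agent.H120.GThreeF
import Cfsg.Agent.H120.GOtherF
import Cfsg.Agent.H129.CycCard
import Cfsg.Agent.H514.DP.Cyc_m3
import Cfsg.Agent.H514.DP.OrdElt
import Cfsg.Agent.H749.BlockOrth_m3
import Cfsg.Agent.FastGrp
import Cfsg.Agent.Prune
set_option linter.all false
prune_inst 0x7f00000000000000000000000000000000000000000000000000000000000000000000000000000000000000000000000000000000000000000000000000000000000000000000000000000000000000003fffffffffffffffffffffffffffbeffbdffffffff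
open scoped Cfsg.Agent.FastGrp

/-!
# S2454: the groups `G₂(q)`, `q ≥ 3`

`y` : the image of an element of order `q² + q + 1` of `SL₃(q)` (long roots); `|C(y)| ≤ q² + q + 1`.
-/

set_option autoImplicit false
set_option linter.unusedSectionVars false

namespace Cfsg.Agent.H120.DP.GTwo

open Module Matrix Cfsg.Lie Cfsg.Agent.H120 Cfsg.Agent.H120.Hx Cfsg.Agent.H120.GTwo
open Cfsg.Agent.H514.DP Cfsg.Agent.H118.SLInt Cfsg.Agent.H118.SLWt Cfsg.Agent.H118.SLTrans
open scoped commutatorElement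

universe u

/-! ### conjugation into a torus -/

section Conj

variable {G : Type*} [Group G] [Finite G]

theorem exists_conj_mem {l : ℕ} [hl : Fact l.Prime] {T : Subgroup G} (hT : ¬ l ∣ T.index) {y : G} (hy : orderOf y = l) :
    ∃ g : G, g⁻¹ * y * g ∈ T := by
  classical
  obtain ⟨P⟩ : Nonempty (Sylow l T) := inferInstance
  have h1 : IsPGroup l ((P : Subgroup T).map T.subtype) := P.isPGroup'.map _
  have h2 : ¬ l ∣ ((P : Subgroup T).map T.subtype).index := by
    have e : ((P : Subgroup T).map T.subtype).index = (P : Subgroup T).index * T.index := by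
      rw [Subgroup.index_map_subtype]
    rw [e, hl.out.dvd_mul]
    rintro (h | h)
    · exact P.not_dvd_index h
    · exact hT h
  let Q : Sylow l G := h1.toSylow h2
  have hQ : (Q : Subgroup G) ≤ T := by
    show (P : Subgroup T).map T.subtype ≤ T
    exact Subgroup.map_subtype_le _
  have h3 : IsPGroup l (Subgroup.zpowers y) := by
    apply IsPGroup.of_card (n := 1)
    rw [Nat.card_zpowers, hy, pow_one]
  obtain ⟨R, hR⟩ := h3.exists_le_sylow
  obtain ⟨g, hg⟩ := MulAction.exists_smul_eq G Q R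
  refine ⟨g, hQ ?_⟩
  have h4 : y ∈ (R : Subgroup G) := hR (Subgroup.mem_zpowers y)
  rw [← hg, Sylow.coe_subgroup_smul] at h4
  have h5 := (Subgroup.mem_pointwise_smul_iff_inv_smul_mem).1 h4
  simpa using h5

theorem card_cent_le {l : ℕ} [hl : Fact l.Prime] {T : Subgroup G} (hT : ¬ l ∣ T.index)
    (hC : ∀ y ∈ T, orderOf y = l → Subgroup.centralizer {y} ≤ T) {y : G} (hy : orderOf y = l) :
    Nat.card (Subgroup.centralizer ({y} : Set G)) ≤ Nat.card T := by
  obtain ⟨g, hg⟩ := exists_conj_mem hT hy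
  have ho : orderOf (g⁻¹ * y * g) = l := by
    rw [← hy]
    have := orderOf_injective (MulAut.conj g⁻¹).toMonoidHom (MulAut.conj g⁻¹).injective y
    simpa using this
  have h1 := hC _ hg ho
  let f : Subgroup.centralizer ({y} : Set G) → T := fun x => ⟨g⁻¹ * x * g, h1 (by
    rw [Subgroup.mem_centralizer_singleton_iff]
    have h2 := Subgroup.mem_centralizer_singleton_iff.1 x.2
    calc g⁻¹ * (x : G) * g * (g⁻¹ * y * g) = g⁻¹ * (x * y) * g := by group
      _ = g⁻¹ * (y * x) * g := by rw [h2]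
      _ = _ := by group)⟩
  refine Nat.card_le_card_of_injective f ?_
  intro x x' h
  have h2 : g⁻¹ * (x : G) * g = g⁻¹ * x' * g := congrArg Subtype.val h
  exact Subtype.ext (mul_left_cancel (mul_right_cancel h2))

end Conj

/-! ### minimal degrees -/

section Deg

variable {F : Type u} [Field F] [Fintype F] {V : Type*} [AddCommGroup V] [Module ℂ V] [FiniteDimensional ℂ V]

theorem deg_ge (hq : 3 ≤ Fintype.card F) (ρ : Representation ℂ ↥(chevG2.group F) V)
    (hρ : ρ.IsIrreducible) (h2 : 2 ≤ finrank ℂ V) :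
    Fintype.card F ^ 2 - 1 ≤ finrank ℂ V ∧
      ((3 : F) ≠ 0 → (Fintype.card F ^ 2 - 1) * Fintype.card F ≤ finrank ℂ V) := by
  classical
  have hF := exists_ne F (by omega)
  have H : Hexa (XX : ZMod 12 → F → ↥(chevG2.group F)) := hexa
  obtain ⟨ψ, hψ⟩ : ∃ ψ : AddChar F ℂ, ψ ≠ 0 := by
    obtain ⟨ζ, hζ⟩ := exists_zeta F
    exact ⟨ζ, fun h => hζ (by rw [h, AddChar.zero_apply])⟩
  have hne := exists_ne_one ρ hρ h2
  have hX := moves hF ρ hne 3
  obtain ⟨D, f, hD⟩ := exists_D (ρ := ρ) H hψ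
  set q := Fintype.card F with hq'
  have hD1 : D ≠ 0 := by
    intro h0
    have h1 : (⊤ : Submodule ℂ V) ≤ Wk XX ρ ψ 3 0 := by
      refine le_zero H hψ (fun c v _ => Submodule.mem_top) fun z hz => ?_
      rw [top_inf_eq, ← Submodule.finrank_eq_zero, (hD 3 (by decide)).2.1 z hz, h0, mul_zero]
    obtain ⟨a, ha⟩ := hX
    apply ha
    ext v
    rw [Module.End.one_apply]
    exact mem_Wk0.1 (h1 Submodule.mem_top) a
  have hN := (hD 1 (by decide)).2.2.2
  refine ⟨?_, fun hp => ?_⟩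
  · rw [hN]
    exact (Nat.le_mul_of_pos_right _ (Nat.pos_of_ne_zero hD1)).trans (Nat.le_add_right _ _)
  · have HN : HexaN (XX : ZMod 12 → F → ↥(chevG2.group F)) := hexaN hp
    obtain ⟨n, hn⟩ : ∃ n, D = q * n := by
      refine ⟨finrank ℂ (Wk XX ρ ψ 1 1 ⊓ Wk XX ρ ψ 3 1 ⊓ Wk XX ρ ψ 2 0 : Submodule ℂ V), ?_⟩
      have h1 := DN (ρ := ρ) HN hψ (y := 1) (z := 1) (Or.inl one_ne_zero) 0
      rw [← h1]
      exact ((hD 1 (by decide)).1 1 1 (Or.inl one_ne_zero)).symm
    have hn0 : n ≠ 0 := by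
      rintro rfl
      exact hD1 (by rw [hn, mul_zero])
    rw [hN, hn, ← mul_assoc]
    exact (Nat.le_mul_of_pos_right _ (Nat.pos_of_ne_zero hn0)).trans (Nat.le_add_right _ _)

end Deg

section Main

variable {F : Type u} [Field F] [Fintype F]

theorem three_zero_iff : (3 : F) = 0 ↔ 3 ∣ Fintype.card F := by
  obtain ⟨p, hchar⟩ := CharP.exists F
  obtain ⟨n, hpp, hcard⟩ := FiniteField.card F p
  constructor
  · intro h
    have h1 : ((3 : ℕ) : F) = 0 := by exact_mod_cast h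
    have h2 : p ∣ 3 := (CharP.cast_eq_zero_iff F p 3).1 h1
    have h3 : p = 3 := (Nat.prime_dvd_prime_iff_eq hpp Nat.prime_three).1 h2
    rw [hcard, h3]
    exact dvd_pow_self 3 n.2.ne'
  · intro h
    rw [hcard] at h
    have h2 : 3 ∣ p := Nat.prime_three.dvd_of_dvd_pow h
    have h3 : 3 = p := (Nat.prime_dvd_prime_iff_eq Nat.prime_three hpp).1 h2
    have h4 : ((3 : ℕ) : F) = 0 := (CharP.cast_eq_zero_iff F p 3).2 (by rw [← h3])
    exact_mod_cast h4

/-- the degree used: `8` for `q = 3`, `q³ - q` for `q ≥ 4` -/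
theorem minDeg (hq : 3 ≤ Fintype.card F) : Cfsg.Agent.H514.DP.MinDeg ↥(chevG2.group F)
    (if Fintype.card F = 3 then 8 else (Fintype.card F ^ 2 - 1) * Fintype.card F) := by
  intro k ρ hρ hk
  have hfr : Module.finrank ℂ (Fin k → ℂ) = k := Module.finrank_fin_fun ℂ
  have h := deg_ge hq ρ hρ (by rw [hfr]; exact hk)
  rw [hfr] at h
  by_cases h3 : Fintype.card F = 3
  · rw [if_pos h3]
    have := h.1
    rw [h3] at this
    exact this
  · rw [if_neg h3]
    by_cases h0 : (3 : F) = 0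
    · have hc : 3 ∣ Fintype.card F := three_zero_iff.1 h0
      have h9 : 9 ≤ Fintype.card F := by
        obtain ⟨p, hchar⟩ := CharP.exists F
        obtain ⟨n, hpp, hcard⟩ := FiniteField.card F p
        rw [hcard] at hc
        have h5 : 3 = p := (Nat.prime_dvd_prime_iff_eq Nat.prime_three hpp).1 (Nat.prime_three.dvd_of_dvd_pow hc)
        rw [hcard, ← h5] at h3 ⊢
        have hn : 2 ≤ (n : ℕ) := by
          rcases Nat.lt_or_ge (n : ℕ) 2 with hn | hn
          · exfalso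
            have hn0 : 0 < (n : ℕ) := n.pos
            have hn1 : (n : ℕ) = 1 := by omega
            apply h3
            rw [hn1, pow_one]
          · exact hn
        calc 9 = 3 ^ 2 := by norm_num
          _ ≤ 3 ^ (n : ℕ) := Nat.pow_le_pow_right (by norm_num) hn
      have h6 := main_three h0 h9 ρ hρ (by rw [hfr]; exact hk)
      rw [hfr] at h6
      refine le_trans ?_ h6
      set q := Fintype.card F
      calc (q ^ 2 - 1) * q ≤ q ^ 2 * q := Nat.mul_le_mul_right _ (Nat.sub_le _ _)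
        _ = q ^ 3 := by ring
        _ ≤ q ^ 4 := Nat.pow_le_pow_right (by omega) (by norm_num)
        _ ≤ _ := by omega
    · exact h.2 h0

theorem perf (hq : 3 ≤ Fintype.card F) : commutator ↥(chevG2.group F) = ⊤ := by
  obtain ⟨hs, hnc⟩ := Cfsg.Agent.S1055.result (exists_ne F (by omega))
  have hn : (commutator ↥(chevG2.group F)).Normal := inferInstance
  rcases hn.eq_bot_or_eq_top with h | h
  · exfalso
    apply hnc
    refine ⟨⟨fun a b => ?_⟩⟩
    have h1 : ⁅a, b⁆ ∈ commutator ↥(chevG2.group F) := Subgroup.commutator_mem_commutator (Subgroup.mem_top a) (Subgroup.mem_top b)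
    rw [h, Subgroup.mem_bot] at h1
    exact commutatorElement_eq_one_iff_mul_comm.1 h1
  · exact h

theorem arith1 {q : ℕ} (h4 : 4 ≤ q) : q ^ 2 + q < (q ^ 2 - 1) * q := by
  obtain ⟨s, rfl⟩ : ∃ s, q = s + 4 := ⟨q - 4, by omega⟩
  have e : (s + 4) ^ 2 - 1 = s ^ 2 + 8 * s + 15 := by
    have : (s + 4) ^ 2 = s ^ 2 + 8 * s + 15 + 1 := by ring
    omega
  rw [e]
  nlinarith [Nat.zero_le (s ^ 3), Nat.zero_le (s ^ 2)]

theorem sq_three {x : ZMod 3} (h : x ≠ 0) : x ^ 2 - 1 = 0 := by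
  revert h
  revert x
  decide

theorem not_two {x : ZMod 2} (h : x ^ 2 + x + 1 = 0) : False := by
  revert h
  revert x
  decide

/-- **K for `G₂(q)`**: an element with centralizer of order at most `q² + q + 1`. -/
theorem pw_of_pe (hq : 3 ≤ Fintype.card F) {p m : ℕ} {y : ↥(chevG2.group F)} (hy : PE p m y)
    (hC : Nat.card (Subgroup.centralizer ({y} : Set ↥(chevG2.group F))) ≤ Fintype.card F ^ 2 + Fintype.card F + 1) :
    PW p (m * 5) ↥(chevG2.group F) := by
  refine PW.of_pe (perf hq) hy (minDeg hq) (by norm_num) ?_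
  have h1 : Nat.card (Subgroup.centralizer ({y} : Set ↥(chevG2.group F))) - 1 ≤ Fintype.card F ^ 2 + Fintype.card F := by
    omega
  refine lt_of_le_of_lt (Nat.pow_le_pow_left h1 5) ?_
  by_cases h3 : Fintype.card F = 3
  · rw [if_pos h3, h3]
    norm_num
  · rw [if_neg h3]
    set q := Fintype.card F
    have h4 : 4 ≤ q := by omega
    have h5 : q ^ 2 + q < (q ^ 2 - 1) * q := arith1 h4
    calc (q ^ 2 + q) ^ 5 < ((q ^ 2 - 1) * q) ^ 5 := Nat.pow_lt_pow_left h5 (by norm_num)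
      _ ≤ ((q ^ 2 - 1) * q) ^ (2 * 5 - 4) := Nat.pow_le_pow_right (by omega) (by norm_num)

/-- the order of the centralizer of an element of prime order dividing `q² + q + 1` -/
theorem card_cent (hq : 3 ≤ Fintype.card F) {l : ℕ} (hl : l.Prime) (hl3 : l ≠ 3)
    (hd : l ∣ Fintype.card F ^ 2 + Fintype.card F + 1) {y : ↥(chevG2.group F)} (hy : orderOf y = l) :
    Nat.card (Subgroup.centralizer ({y} : Set ↥(chevG2.group F))) ≤ Fintype.card F ^ 2 + Fintype.card F + 1 := by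
  have : Fact l.Prime := ⟨hl⟩
  set q := Fintype.card F with hqdef
  have hmz : ((q ^ 2 + q + 1 : ℕ) : ℤ) = 1 + (q : ℤ) + (q : ℤ) ^ 2 := by push_cast; ring
  have hdz : (l : ℤ) ∣ 1 + (q : ℤ) + (q : ℤ) ^ 2 := by
    rw [← hmz]; exact Int.natCast_dvd_natCast.2 hd
  obtain ⟨T, -, hT1, hT2, hT3, hT4⟩ := Cfsg.Agent.H129.CycCard.card_G2_3 (F := F) rfl hmz hl hdz hl3
  rw [one_mul] at hT2
  have hT : Nat.card T = q ^ 2 + q + 1 := Nat.dvd_antisymm hT1 hT2
  rw [← hT]
  refine card_cent_le ?_ hT4 hy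
  intro hdi
  have h1 := T.card_mul_index
  rw [hT, Cfsg.Agent.S1059.result (F := F) rfl] at h1
  have hq1 : 1 ≤ q := by omega
  have e3 : q ^ 3 - 1 = (q - 1) * (q ^ 2 + q + 1) := by
    obtain ⟨s, hs⟩ : ∃ s, q = s + 1 := ⟨q - 1, by omega⟩
    rw [hs, Nat.add_sub_cancel]
    have : (s + 1) ^ 3 = s * ((s + 1) ^ 2 + (s + 1) + 1) + 1 := by ring
    omega
  have e6 : q ^ 6 - 1 = (q ^ 3 - 1) * (q ^ 3 + 1) := by
    have h2 : 1 ≤ q ^ 3 := Nat.one_le_pow _ _ hq1
    obtain ⟨s, hs⟩ : ∃ s, q ^ 3 = s + 1 := ⟨q ^ 3 - 1, by omega⟩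
    have e : q ^ 6 = (q ^ 3) ^ 2 := by ring
    rw [e, hs, Nat.add_sub_cancel]
    have : (s + 1) ^ 2 = s * (s + 1 + 1) + 1 := by ring
    omega
  have h2 : T.index = q ^ 6 * (q ^ 2 - 1) * ((q - 1) * (q ^ 3 + 1)) := by
    apply Nat.eq_of_mul_eq_mul_left (show 0 < q ^ 2 + q + 1 by omega)
    rw [← hqdef] at h1
    rw [h1, e6, e3]
    ring
  rw [h2] at hdi
  -- `l` divides `q`, `q - 1`, `q + 1` or `q² - q + 1`
  have hz : ((q : ZMod l) ^ 2 + q + 1 = 0) := by
    have := (ZMod.natCast_eq_zero_iff (q ^ 2 + q + 1) l).2 hd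
    push_cast at this
    exact this
  have h1z : (1 : ZMod l) ≠ 0 := one_ne_zero
  have h3z : (3 : ZMod l) ≠ 0 := by
    intro h
    have : ((3 : ℕ) : ZMod l) = 0 := by exact_mod_cast h
    rw [ZMod.natCast_eq_zero_iff] at this
    exact hl3 ((Nat.prime_dvd_prime_iff_eq hl Nat.prime_three).1 this)
  have h2z : (2 : ZMod l) ≠ 0 := by
    intro h
    have h5 : ((2 : ℕ) : ZMod l) = 0 := by exact_mod_cast h
    rw [ZMod.natCast_eq_zero_iff] at h5
    have h6 : l = 2 := (Nat.prime_dvd_prime_iff_eq hl Nat.prime_two).1 h5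
    subst h6
    exact not_two hz
  have hdiz : (q : ZMod l) ^ 6 * ((q : ZMod l) ^ 2 - 1) * (((q : ZMod l) - 1) * ((q : ZMod l) ^ 3 + 1)) = 0 := by
    have h5 := (ZMod.natCast_eq_zero_iff (q ^ 6 * (q ^ 2 - 1) * ((q - 1) * (q ^ 3 + 1))) l).2 hdi
    have h6 : 1 ≤ q ^ 2 := Nat.one_le_pow _ _ hq1
    push_cast [Nat.cast_sub h6, Nat.cast_sub hq1] at h5
    exact h5
  set x : ZMod l := (q : ZMod l)
  -- `x³ = 1`
  have hx3 : x ^ 3 = 1 := by linear_combination (x - 1) * hz
  have hx0 : x ≠ 0 := by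
    intro h
    rw [h] at hx3
    simp at hx3
  rcases mul_eq_zero.1 hdiz with h | h
  · rcases mul_eq_zero.1 h with h | h
    · exact hx0 (pow_eq_zero_iff (by norm_num) |>.1 h)
    · -- `x² = 1`, so `x = x³ = 1` and `3 = 0`
      have hx1 : x = 1 := by linear_combination hx3 - x * h
      rw [hx1] at hz
      exact h3z (by linear_combination hz)
  · rcases mul_eq_zero.1 h with h | h
    · have hx1 : x = 1 := by linear_combination h
      rw [hx1] at hz
      exact h3z (by linear_combination hz)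
    · rw [hx3] at h
      exact h2z (by linear_combination h)

/-- `q² + q + 1` has a prime divisor different from three -/
theorem exists_prime {q : ℕ} (hq : 2 ≤ q) : ∃ l : ℕ, l.Prime ∧ l ≠ 3 ∧ l ∣ q ^ 2 + q + 1 := by
  by_contra hcon
  push Not at hcon
  have h1 : ∀ l : ℕ, l.Prime → l ∣ q ^ 2 + q + 1 → l = 3 := fun l hl hd => by
    by_contra h
    exact hcon l hl h hd
  have h2 := Nat.eq_prime_pow_of_unique_prime_dvd (n := q ^ 2 + q + 1) (p := 3) (by omega) (fun {l} hl hd => h1 l hl hd)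
  have h9 : ¬ 9 ∣ q ^ 2 + q + 1 := by
    intro h
    have h3 := (ZMod.natCast_eq_zero_iff (q ^ 2 + q + 1) 9).2 h
    push_cast at h3
    generalize (q : ZMod 9) = x at h3
    clear hcon h1 h2
    revert h3; revert x; decide
  have h7 : 7 ≤ q ^ 2 + q + 1 := by nlinarith
  have h4 : 2 ≤ (q ^ 2 + q + 1).primeFactorsList.length := by
    by_contra h5
    have h6 : (3 : ℕ) ^ (q ^ 2 + q + 1).primeFactorsList.length ≤ 3 ^ 1 := Nat.pow_le_pow_right (by norm_num) (by omega)
    omega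
  apply h9
  rw [h2]
  exact pow_dvd_pow 3 h4

/-- the image of an element of `SL₃(q)` whose order is divisible by `l` -/
theorem card_cent_pi (hq : 3 ≤ Fintype.card F) {π : SpecialLinearGroup (Fin 3) F →* ↥(chevG2.group F)}
    (hπ : π.ker ≤ Subgroup.center (SpecialLinearGroup (Fin 3) F)) {l : ℕ} (hl : l.Prime) (hl3 : l ≠ 3)
    (hd : l ∣ Fintype.card F ^ 2 + Fintype.card F + 1) {s : SpecialLinearGroup (Fin 3) F} (hs : l ∣ orderOf s) :
    Nat.card (Subgroup.centralizer ({π s} : Set ↥(chevG2.group F))) ≤ Fintype.card F ^ 2 + Fintype.card F + 1 := by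
  obtain ⟨n, hn⟩ := hs
  have hpos : 0 < orderOf s := orderOf_pos s
  have hn0 : n ≠ 0 := by rintro rfl; omega
  have h1 : orderOf (s ^ n) = l := by
    rw [orderOf_pow_of_dvd hn0 ⟨l, by rw [hn, mul_comm]⟩, hn, Nat.mul_div_cancel _ (Nat.pos_of_ne_zero hn0)]
  have h2 : π (s ^ n) ≠ 1 := by
    intro h
    have h3 : s ^ n ∈ π.ker := h
    have h4 := Subgroup.orderOf_dvd_natCard π.ker h3
    rw [h1] at h4
    have h5 := h4.trans (card_center3 F π.ker hπ)
    exact hl3 ((Nat.prime_dvd_prime_iff_eq hl Nat.prime_three).1 h5)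
  have h3 : orderOf (π s ^ n) = l := by
    have : Fact l.Prime := ⟨hl⟩
    refine orderOf_eq_prime ?_ (by rw [← map_pow]; exact h2)
    rw [← map_pow, ← map_pow, ← h1, pow_orderOf_eq_one, map_one]
  refine le_trans (Subgroup.card_le_of_le ?_) (card_cent hq hl hl3 hd h3)
  intro x hx
  rw [Subgroup.mem_centralizer_singleton_iff] at hx ⊢
  exact (Commute.pow_right (show Commute x (π s) from hx) n).eq

/-- non-diagonal elements of `SL₂(q)` -/
theorem pe_nonDiag {p : ℕ} (hp : p.Prime) (hd : CharP F p ∨ (p ∣ Nat.card F ^ 2 - 1 ∧ 4 ≤ Nat.card F))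
    (M : SpecialLinearGroup (Fin 2) F) (hM : NonDiag M) : PE p 3 M := by
  refine pe_three_of_nonscalar hp hd M fun c h => ?_
  obtain ⟨i, j, hij, h1⟩ := hM
  apply h1
  rw [h, Matrix.smul_apply, Matrix.one_apply_ne hij, smul_zero]

theorem orderOf_sing {K : Type*} [Field K] [Algebra F K] {n : ℕ} (b : Module.Basis (Fin n) F K) (z : K)
    (h : Algebra.norm F z = 1) : orderOf (sing b z h) = orderOf z := by
  apply orderOf_eq_orderOf_iff.2
  intro k
  have e : (sing b z h ^ k).1 = Algebra.leftMulMatrix b (z ^ k) := by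
    induction k with
    | zero =>
      rw [pow_zero, pow_zero, map_one]
      rfl
    | succ k ih =>
      rw [pow_succ, pow_succ, map_mul, ← ih]
      rfl
  constructor
  · intro h1
    have h2 : Algebra.leftMulMatrix b (z ^ k) = Algebra.leftMulMatrix b 1 := by
      rw [← e, h1, map_one]; rfl
    exact Algebra.leftMulMatrix_injective b h2
  · intro h1
    apply Subtype.ext
    rw [e, h1, map_one]
    rfl

/-- `p ∣ q (q² - 1)`, `q ≥ 4`, or `p = char` -/
theorem pw_six (hq : 3 ≤ Fintype.card F) {p : ℕ} (hp : p.Prime)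
    (hd : CharP F p ∨ (p ∣ Nat.card F ^ 2 - 1 ∧ 4 ≤ Nat.card F)) : PW p 30 ↥(chevG2.group F) := by
  classical
  obtain ⟨K, _, _, _, hK1, hK2⟩ := Cfsg.Agent.H749.exists_ext F 3 (by norm_num)
  have : Module.Finite F K := Module.finite_of_finrank_pos (by omega)
  let b : Module.Basis (Fin 3) F K := Module.finBasisOfFinrankEq F K hK2
  obtain ⟨z, hz1, hz2, hz3⟩ := exists_singer_norm_one b (by norm_num)
  obtain ⟨l, hl, hl3, hld⟩ := exists_prime (q := Fintype.card F) (by omega)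
  obtain ⟨π, -, -, hπ⟩ := exists_pi F
  have h1 : PE p (2 * 3) (sing b z hz1) :=
    pe_sing_of_comp (fun c h => pe_comp (w := 2) (by norm_num) (pe_nonDiag hp hd) (by norm_num) c h) b z hz1 hz3
  have h2 : orderOf (sing b z hz1) = Fintype.card F ^ 2 + Fintype.card F + 1 := by
    rw [orderOf_sing, hz2, Nat.card_eq_fintype_card]
    have e3 : Fintype.card F ^ 3 - 1 = (Fintype.card F ^ 2 + Fintype.card F + 1) * (Fintype.card F - 1) := by
      obtain ⟨s, hs⟩ : ∃ s, Fintype.card F = s + 1 := ⟨Fintype.card F - 1, by omega⟩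
      rw [hs, Nat.add_sub_cancel]
      have : (s + 1) ^ 3 = ((s + 1) ^ 2 + (s + 1) + 1) * s + 1 := by ring
      omega
    rw [e3, Nat.mul_div_cancel _ (by omega)]
  exact pw_of_pe hq (h1.map π) (card_cent_pi hq hπ hl hl3 hld (by rw [h2]; exact hld))

/-! ### `q = 3`, `p = 2` -/

def mA : SpecialLinearGroup (Fin 3) (ZMod 3) := ⟨!![0, 0, 1; 0, 2, 0; 1, 0, 0], by decide +kernel⟩
def mB : SpecialLinearGroup (Fin 3) (ZMod 3) := ⟨!![0, 1, 0; 1, 1, 2; 2, 2, 0], by decide +kernel⟩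

theorem mA_pow : mA ^ 2 = 1 := by
  rw [pow_two]
  apply Subtype.ext
  show mA.1 * mA.1 = 1
  decide +kernel

theorem mB_pow : mB ^ 4 = 1 := by
  have e : mB ^ 4 = (mB * mB) * (mB * mB) := by rw [← pow_two, ← pow_two, ← pow_mul]
  rw [e]
  apply Subtype.ext
  show (mB.1 * mB.1) * (mB.1 * mB.1) = 1
  decide +kernel

theorem mC_pow : (mA * mB) ^ 13 = 1 := by
  set c := mA * mB with hc
  have e : c ^ 13 = ((c * c) * (c * c)) * ((c * c) * (c * c)) * ((c * c) * (c * c)) * c := by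
    simp only [pow_succ, pow_zero, one_mul, mul_assoc]
  rw [e]
  apply Subtype.ext
  have h : c.1 = !![2, 2, 0; 2, 2, 1; 0, 1, 0] := by
    rw [hc]
    show mA.1 * mB.1 = _
    decide +kernel
  show ((c.1 * c.1) * (c.1 * c.1)) * ((c.1 * c.1) * (c.1 * c.1)) * ((c.1 * c.1) * (c.1 * c.1)) * c.1 = 1
  rw [h]
  decide +kernel

theorem mC_ne : mA * mB ≠ 1 := by
  intro h
  have h1 : (mA.1 * mB.1) 0 1 = 0 := by
    have := congrArg (fun x : SpecialLinearGroup (Fin 3) (ZMod 3) => x.1 0 1) h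
    exact this
  revert h1
  decide +kernel

theorem pw_three (hq : Fintype.card F = 3) : PW 2 10 ↥(chevG2.group F) := by
  classical
  obtain ⟨r, hr⟩ := CharP.exists F
  obtain ⟨k, hrp, hk⟩ := FiniteField.card F r
  rw [hq] at hk
  have hr3 : r = 3 := by
    have : r ∣ 3 := by rw [hk]; exact dvd_pow_self r k.2.ne'
    exact (Nat.prime_dvd_prime_iff_eq hrp Nat.prime_three).1 this
  subst hr3
  obtain ⟨π, -, -, hπ⟩ := exists_pi F
  let ι : ZMod 3 →+* F := ZMod.castHom (dvd_refl 3) F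
  let f : SpecialLinearGroup (Fin 3) (ZMod 3) →* SpecialLinearGroup (Fin 3) F := SpecialLinearGroup.map ι
  have hf : Function.Injective f := by
    intro A B h
    apply Subtype.ext
    ext i j
    have := congrArg (fun x : SpecialLinearGroup (Fin 3) F => x.1 i j) h
    exact ι.injective this
  have h13 : Nat.Prime 13 := by norm_num
  have h1 : orderOf (f (mA * mB)) = 13 := by
    have : Fact (Nat.Prime 13) := ⟨h13⟩
    rw [orderOf_injective f hf]
    exact orderOf_eq_prime mC_pow mC_ne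
  have h2 : PE 2 2 (π (f (mA * mB))) := by
    rw [map_mul, map_mul]
    refine PE.mul (m := 1) (n := 1) (IsPE.pe ?_) (IsPE.pe ?_)
    · exact ⟨1, by rw [pow_one, ← map_pow, ← map_pow, mA_pow, map_one, map_one]⟩
    · exact ⟨2, by rw [show 2 ^ 2 = 4 by norm_num, ← map_pow, ← map_pow, mB_pow, map_one, map_one]⟩
  exact pw_of_pe (by omega) h2 (card_cent_pi (by omega) hπ h13 (by norm_num) (by rw [hq]; norm_num) (by rw [h1]))

/-! ### the main theorem -/

/-- **S2454 for `G₂(q)`, `q ≥ 3`** -/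
theorem pw (hq : 3 ≤ Fintype.card F) {p : ℕ} (hp : p.Prime) (hd : p ∣ Nat.card ↥(chevG2.group F)) :
    PW p 30 ↥(chevG2.group F) := by
  have : Fact p.Prime := ⟨hp⟩
  by_cases hA : CharP F p ∨ (p ∣ Nat.card F ^ 2 - 1 ∧ 4 ≤ Nat.card F)
  · exact pw_six hq hp hA
  rw [not_or, not_and, not_le, Nat.card_eq_fintype_card] at hA
  obtain ⟨hA1, hA2⟩ := hA
  set q := Fintype.card F with hqdef
  rw [Cfsg.Agent.S1059.result (F := F) rfl, ← hqdef] at hd
  have hpq : ¬ p ∣ q := by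
    intro h
    apply hA1
    obtain ⟨r, hr⟩ := CharP.exists F
    obtain ⟨k, hrp, hk⟩ := FiniteField.card F r
    have h5 : p ∣ r ^ (k : ℕ) := by rw [← hk]; exact h
    have h6 := (Nat.prime_dvd_prime_iff_eq hp hrp).1 (hp.dvd_of_dvd_pow h5)
    rw [h6]; exact hr
  by_cases h2 : p ∣ q ^ 2 - 1
  · have h3 := hA2 h2
    have hq3 : q = 3 := by omega
    rw [hq3] at h2
    have h8 : p ∣ 2 ^ 3 := by norm_num at h2 ⊢; exact h2
    have hp2 : p = 2 := (Nat.prime_dvd_prime_iff_eq hp Nat.prime_two).1 (hp.dvd_of_dvd_pow h8)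
    subst hp2
    exact (pw_three hq3).mono (by norm_num)
  -- `p ∣ q² ± q + 1`
  have hq1 : 1 ≤ q := by omega
  have e2 : q ^ 2 - 1 = (q - 1) * (q + 1) := by
    obtain ⟨s, hs⟩ : ∃ s, q = s + 1 := ⟨q - 1, by omega⟩
    rw [hs, Nat.add_sub_cancel]
    have : (s + 1) ^ 2 = s * (s + 1 + 1) + 1 := by ring
    omega
  have hle : q ≤ q ^ 2 := Nat.le_self_pow (by norm_num) q
  have e6 : q ^ 6 - 1 = (q ^ 2 - 1) * ((q ^ 2 + q + 1) * (q ^ 2 - q + 1)) := by
    obtain ⟨s, hs⟩ : ∃ s, q = s + 1 := ⟨q - 1, by omega⟩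
    have e : (s + 1) ^ 2 - (s + 1) = s ^ 2 + s := by
      have : (s + 1) ^ 2 = s ^ 2 + s + (s + 1) := by ring
      omega
    have e' : (s + 1) ^ 2 - 1 = s ^ 2 + 2 * s := by
      have : (s + 1) ^ 2 = s ^ 2 + 2 * s + 1 := by ring
      omega
    rw [hs, e, e']
    have : (s + 1) ^ 6 = (s ^ 2 + 2 * s) * (((s + 1) ^ 2 + (s + 1) + 1) * (s ^ 2 + s + 1)) + 1 := by ring
    omega
  have h3 : p ∣ (q ^ 2 + q + 1) * (q ^ 2 - q + 1) := by
    rcases (Nat.Prime.dvd_mul hp).1 hd with h | h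
    · rcases (Nat.Prime.dvd_mul hp).1 h with h | h
      · exact absurd (hp.dvd_of_dvd_pow h) hpq
      · exact absurd h h2
    · rw [e6] at h
      exact ((Nat.Prime.dvd_mul hp).1 h).resolve_left h2
  have hp3 : p ≠ 3 := by
    rintro rfl
    apply h2
    have h4 : ((q : ZMod 3) ≠ 0) := fun h => hpq ((ZMod.natCast_eq_zero_iff q 3).1 h)
    rw [← ZMod.natCast_eq_zero_iff, Nat.cast_sub (Nat.one_le_pow _ _ hq1)]
    push_cast
    exact sq_three h4
  rcases (Nat.Prime.dvd_mul hp).1 h3 with h | h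
  · -- `p ∣ q² + q + 1`
    have hmz : ((q ^ 2 + q + 1 : ℕ) : ℤ) = 1 + (q : ℤ) + (q : ℤ) ^ 2 := by push_cast; ring
    have hdz : (p : ℤ) ∣ 1 + (q : ℤ) + (q : ℤ) ^ 2 := by
      rw [← hmz]; exact Int.natCast_dvd_natCast.2 h
    obtain ⟨T, -, -, -, hT3, -⟩ := Cfsg.Agent.H129.CycCard.card_G2_3 (F := F) rfl hmz hp hdz hp3
    obtain ⟨y, hy⟩ := exists_prime_orderOf_dvd_card' p hT3
    have hy' : orderOf (y : ↥(chevG2.group F)) = p := by rw [Subgroup.orderOf_coe, hy]
    exact (pw_of_pe hq (IsPE.of_prime hy').pe (card_cent hq hp hp3 h hy')).mono (by norm_num)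
  · have hmz : ((q ^ 2 - q + 1 : ℕ) : ℤ) = 1 - (q : ℤ) + (q : ℤ) ^ 2 := by
      push_cast [Nat.cast_sub hle]; ring
    have hdz : (p : ℤ) ∣ 1 - (q : ℤ) + (q : ℤ) ^ 2 := by
      rw [← hmz]; exact Int.natCast_dvd_natCast.2 h
    obtain ⟨T, -, hT1, -, hT3, hT4⟩ := Cfsg.Agent.H129.CycCard.card_G2_6 (F := F) rfl hmz hp hdz hp3
    obtain ⟨y, hy⟩ := exists_prime_orderOf_dvd_card' p hT3
    have hy' : orderOf (y : ↥(chevG2.group F)) = p := by rw [Subgroup.orderOf_coe, hy]
    refine (pw_of_pe hq (IsPE.of_prime hy').pe ?_).mono (by norm_num)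
    have h1 := (Subgroup.card_le_of_le (hT4 y y.2 hy')).trans (Nat.le_of_dvd (by omega) hT1)
    refine h1.trans ?_
    rw [← hqdef]
    have := Nat.sub_le (q ^ 2) q
    omega

/-- **S2454 for `G₂(q)`, `q ≥ 3`** -/
theorem pw_g2 {S : Type*} [Group S] (hq : 3 ≤ Fintype.card F) (e : Nonempty (S ≃* ↥(chevG2.group F))) {p : ℕ}
    (hp : p.Prime) (hd : p ∣ Nat.card S) : PW p 30 S := by
  obtain ⟨e⟩ := e
  exact (pw hq hp (by rwa [← Nat.card_congr e.toEquiv])).congr e.symm

end Main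

end Cfsg.Agent.H120.DP.GTwo
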